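import Mathlib
import Groth.Agent.RegBlowLib.Koszul
import Groth.Agent.CILib.KoszulRegular
import Groth.Agent.RelDivLib.FlatSeq
import Groth.Agent.RegIdealLib.Immersion

/-!
# Generic triangular combinations of a Koszul-regular sequence form a regular sequence
-/

set_option autoImplicit false
set_option linter.style.haveILetI false
set_option backward.isDefEq.respectTransparency false

universe u

open MvPolynomial

noncomputable section

namespace Groth.Agent.GenSeqLib

variable {A : Type u} [CommRing A] {c : ℕ} (f : Fin c → A)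

/-- The generic triangular combinations `f_i + Σ_{i < j} T_{ij} f_j`. -/
def comb (i : Fin c) : MvPolynomial (Fin c × Fin c) A :=
  C (f i) + ∑ j, if i < j then X (i, j) * C (f j) else 0

/-- The list of generic combinations. -/
def combList : List (MvPolynomial (Fin c × Fin c) A) := List.ofFn (comb f)

theorem length_combList : (combList f).length = c := List.length_ofFn

theorem getElem_combList (i : ℕ) (h : i < c) :
    (combList f)[i]'(by rw [length_combList]; exact h) = comb f ⟨i, h⟩ := by
  simp [combList]

theorem ofList_combList :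
    Ideal.ofList (combList f) = Ideal.ofList ((List.ofFn f).map (C (σ := Fin c × Fin c))) := by
  rw [List.map_ofFn, combList, Groth.Agent.RegIdealLib.ofList_ofFn, Groth.Agent.RegIdealLib.ofList_ofFn]
  refine le_antisymm (Ideal.span_le.2 ?_) (Ideal.span_le.2 ?_)
  · rintro _ ⟨i, rfl⟩
    refine add_mem (Ideal.subset_span ⟨i, rfl⟩) (Submodule.sum_mem _ fun j _ => ?_)
    split_ifs with h
    · exact Ideal.mul_mem_left _ _ (Ideal.subset_span ⟨j, rfl⟩)
    · exact zero_mem _
  · suffices H : ∀ (n : ℕ) (i : Fin c), c - (i : ℕ) ≤ n → C (f i) ∈ Ideal.span (Set.range (comb f)) by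
      rintro _ ⟨i, rfl⟩
      exact H c i (Nat.sub_le _ _)
    intro n
    induction n with
    | zero => intro i hi; have := i.isLt; omega
    | succ n ih =>
      intro i hi
      have hC : C (f i) = comb f i - ∑ j, if i < j then X (i, j) * C (f j) else 0 := by
        rw [comb, add_sub_cancel_right]
      rw [hC]
      refine sub_mem (Ideal.subset_span ⟨i, rfl⟩) (Submodule.sum_mem _ fun j _ => ?_)
      split_ifs with h
      · exact Ideal.mul_mem_left _ _ (ih j (by have := Fin.lt_def.1 h; omega))
      · exact zero_mem _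

/-- Distinct variables form a Koszul-regular sequence. -/
theorem isKoszulRegularSeq_vars {σ : Type} {L : Type u} [CommRing L] {k : ℕ} (e : Fin k → σ)
    (he : Function.Injective e) :
    LCI.IsKoszulRegularSeq (MvPolynomial σ L) (List.ofFn fun i => (X (e i) : MvPolynomial σ L)) := by
  classical
  let E : Fin k ⊕ {x : σ // x ∉ Set.range e} ≃ σ :=
    (Equiv.sumCongr (Equiv.ofInjective e he) (Equiv.refl _)).trans (Equiv.sumCompl fun x => x ∈ Set.range e)
  let Φ : MvPolynomial (Fin k) (MvPolynomial {x : σ // x ∉ Set.range e} L) ≃ₐ[L] MvPolynomial σ L :=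
    (sumAlgEquiv L (Fin k) {x : σ // x ∉ Set.range e}).symm.trans (renameEquiv L E)
  have h : LCI.IsKoszulRegularSeq (MvPolynomial σ L)
      ((List.ofFn fun i : Fin k => (X i : MvPolynomial (Fin k) (MvPolynomial {x : σ // x ∉ Set.range e} L))).map
        Φ.toRingEquiv.toRingHom) :=
    Groth.Agent.RelDivLib.seq_flat Φ.toRingEquiv.toRingHom (RingHom.Flat.of_bijective Φ.bijective) .koszul
      (by simp) (Groth.Agent.CILib.isKoszulRegularSeq_of_isWeaklyRegular _ (Groth.Agent.CMSliceLib.isWeaklyRegular_X _ k))
  convert h using 1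
  rw [List.map_ofFn]
  refine congrArg List.ofFn (funext fun i => ?_)
  show X (e i) = renameEquiv L E ((sumAlgEquiv L (Fin k) {x : σ // x ∉ Set.range e}).symm (X i))
  rw [sumAlgEquiv_symm_X, renameEquiv_apply, rename_X]
  rfl

/-- The part of the `i`-th combination without the variable `(i, j)`. -/
def restComb {L : Type u} [CommRing L] (g : Fin c → L) (j i : Fin c) : MvPolynomial (Fin c × Fin c) L :=
  C (g i) + ∑ l, if i < l ∧ l ≠ j then X (i, l) * C (g l) else 0

theorem comb_eq_add_restComb {L : Type u} [CommRing L] (g : Fin c → L) (j i : Fin c) (hij : i < j) :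
    comb g i = X (i, j) * C (g j) + restComb g j i := by
  classical
  rw [comb, restComb, ← Finset.add_sum_erase _ _ (Finset.mem_univ j), if_pos hij,
    ← Finset.add_sum_erase (a := j) _ (fun l => if i < l ∧ l ≠ j then (X (i, l) * C (g l) : MvPolynomial _ L) else 0)
      (Finset.mem_univ j),
    if_neg (fun h => h.2 rfl), zero_add,
    Finset.sum_congr rfl (g := fun l => if i < l then (X (i, l) * C (g l) : MvPolynomial _ L) else 0)
      (s₁ := Finset.univ.erase j) (f := fun l => if i < l ∧ l ≠ j then (X (i, l) * C (g l) : MvPolynomial _ L) else 0)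
      (fun l hl => by simp [Finset.ne_of_mem_erase hl])]
  abel

/-- Where one coefficient is a unit, the first combinations are coordinates. -/
theorem isKoszulRegularSeq_comb_of_isUnit {L : Type u} [CommRing L] (g : Fin c → L) (k : ℕ) (j : Fin c) (hk : k ≤ j)
    (hu : IsUnit (g j)) (hkc : k ≤ c) :
    LCI.IsKoszulRegularSeq (MvPolynomial (Fin c × Fin c) L)
      (List.ofFn fun i : Fin k => comb g (Fin.castLE hkc i)) := by
  classical
  obtain ⟨v, hv⟩ := hu.exists_left_inv
  let shift : L → (Fin c × Fin c → MvPolynomial (Fin c × Fin c) L) := fun t p =>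
    if (p.1 : ℕ) < k ∧ p.2 = j then X p + C t * restComb g j p.1 else X p
  let φ : L → (MvPolynomial (Fin c × Fin c) L →ₐ[L] MvPolynomial (Fin c × Fin c) L) := fun t => aeval (shift t)
  have hfix : ∀ (t : L) (i : Fin c), φ t (restComb g j i) = restComb g j i := by
    intro t i
    simp only [φ, restComb, map_add, map_sum, aeval_C, algebraMap_eq]
    congr 1
    refine Finset.sum_congr rfl fun l _ => ?_
    split_ifs with h
    · simp [shift, h.2]
    · simp
  have hcomp : ∀ t, (φ t).comp (φ (-t)) = AlgHom.id L _ := by
    intro t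
    refine MvPolynomial.algHom_ext fun p => ?_
    rw [AlgHom.comp_apply, AlgHom.id_apply]
    have h1 : φ (-t) (X p) = shift (-t) p := aeval_X _ _
    have h2 : φ t (X p) = shift t p := aeval_X _ _
    have h3 : φ t (C t) = C t := aeval_C _ _
    rw [h1]
    by_cases hp : (p.1 : ℕ) < k ∧ p.2 = j
    · simp only [shift, if_pos hp] at h2 ⊢
      rw [map_add, map_mul, map_neg, map_neg, h2, h3, hfix]
      ring
    · simp only [shift, if_neg hp] at h2 ⊢
      rw [h2]
  let Ψ := AlgEquiv.ofAlgHom (φ v) (φ (-v)) (hcomp v) (by simpa using hcomp (-v))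
  let e : Fin k → Fin c × Fin c := fun i => (Fin.castLE hkc i, j)
  have h1 : LCI.IsKoszulRegularSeq (MvPolynomial (Fin c × Fin c) L)
      ((List.ofFn fun i => (X (e i) : MvPolynomial (Fin c × Fin c) L)).map Ψ.toRingEquiv.toRingHom) :=
    Groth.Agent.RelDivLib.seq_flat Ψ.toRingEquiv.toRingHom (RingHom.Flat.of_bijective Ψ.bijective) .koszul
      (by simp) (isKoszulRegularSeq_vars e fun a b h => Fin.castLE_injective hkc (congrArg Prod.fst h))
  refine Groth.Agent.CILib.isKoszulRegularSeq_of_ofList_eq h1 ?_ (by simp)
  rw [List.map_ofFn, Groth.Agent.RegIdealLib.ofList_ofFn, Groth.Agent.RegIdealLib.ofList_ofFn]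
  have hΨ : ∀ i : Fin k, Ψ.toRingEquiv.toRingHom (X (e i)) = C v * comb g (Fin.castLE hkc i) := fun i => by
    have hij : Fin.castLE hkc i < j := Fin.lt_def.2 (lt_of_lt_of_le (by simp : (Fin.castLE hkc i : ℕ) < k) hk)
    show φ v (X (e i)) = _
    rw [show φ v (X (e i)) = shift v (e i) from aeval_X _ _, comb_eq_add_restComb g j _ hij]
    simp only [shift, e, Fin.val_castLE, Fin.is_lt, and_self, if_true]
    rw [mul_add, mul_left_comm, ← C_mul, hv, C_1, mul_one]
  refine le_antisymm (Ideal.span_le.2 ?_) (Ideal.span_le.2 ?_) <;> rintro _ ⟨i, rfl⟩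
  · have hi : comb g (Fin.castLE hkc i) = C (g j) * Ψ.toRingEquiv.toRingHom (X (e i)) := by
      rw [hΨ, ← mul_assoc, ← C_mul, mul_comm (g j), hv, C_1, one_mul]
    show comb g (Fin.castLE hkc i) ∈ _
    rw [hi]
    exact Ideal.mul_mem_left _ _ (Ideal.subset_span ⟨i, rfl⟩)
  · show Ψ.toRingEquiv.toRingHom (X (e i)) ∈ _
    rw [hΨ]
    exact Ideal.mul_mem_left _ _ (Ideal.subset_span ⟨i, rfl⟩)

theorem map_comb {L : Type u} [CommRing L] (φ : A →+* L) (i : Fin c) :
    MvPolynomial.map φ (comb f i) = comb (fun l => φ (f l)) i := by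
  rw [comb, comb, map_add, map_C, map_sum]
  congr 1
  exact Finset.sum_congr rfl fun l _ => by split_ifs <;> simp

/-- Where `f j` is inverted, the first `k ≤ j` combinations form a Koszul-regular sequence. -/
theorem isKoszulRegularSeq_take_of_isUnit {S : Type u} [CommRing S] [Algebra (MvPolynomial (Fin c × Fin c) A) S]
    [Module.Flat (MvPolynomial (Fin c × Fin c) A) S] (k : ℕ) (j : Fin c) (hk : k ≤ j)
    (hu : IsUnit (algebraMap (MvPolynomial (Fin c × Fin c) A) S (C (f j)))) :
    LCI.IsKoszulRegularSeq S
      (((combList f).take k).map (algebraMap (MvPolynomial (Fin c × Fin c) A) S)) := by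
  classical
  let P := MvPolynomial (Fin c × Fin c) A
  let La := Localization.Away (f j)
  let PL := MvPolynomial (Fin c × Fin c) La
  letI : Algebra P PL := (MvPolynomial.map (algebraMap A La)).toAlgebra
  haveI : IsLocalization.Away (C (f j) : P) PL := by
    have h := MvPolynomial.isLocalization (R := A) (σ := Fin c × Fin c) (S := La) (Submonoid.powers (f j))
    rwa [Submonoid.map_powers] at h
  let χ : PL →+* S := IsLocalization.Away.lift (S := PL) (C (f j) : P) (g := algebraMap P S) hu
  letI : Algebra PL S := χ.toAlgebra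
  haveI : IsScalarTower P PL S := .of_algebraMap_eq fun x => (IsLocalization.Away.lift_eq _ hu x).symm
  haveI : Module.Flat PL S :=
    (Module.flat_iff_of_isLocalization PL (Submonoid.powers (C (f j) : P)) S).2 inferInstance
  have hkc : k ≤ c := hk.trans j.isLt.le
  have hl : (combList f).take k = List.ofFn fun i : Fin k => comb f (Fin.castLE hkc i) := by
    refine List.ext_getElem (by simp [combList, hkc]) fun n h1 h2 => ?_
    simp [combList, Fin.castLE]
  rw [hl, List.map_ofFn]
  have h2 : LCI.IsKoszulRegularSeq PL (List.ofFn fun i : Fin k => algebraMap P PL (comb f (Fin.castLE hkc i))) := by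
    have := isKoszulRegularSeq_comb_of_isUnit (fun l => algebraMap A La (f l)) k j hk
      (IsLocalization.Away.algebraMap_isUnit (f j)) hkc
    simp only [← map_comb] at this
    exact this
  have h3 := Groth.Agent.RelDivLib.isKoszulRegularSeq_flat (S := S) h2
  rw [List.map_ofFn] at h3
  convert h3 using 2
  funext i
  exact IsScalarTower.algebraMap_apply P PL S _

/-- Every prefix of the generic combinations of a Koszul-regular sequence is Koszul regular. -/
theorem isKoszulRegularSeq_take (hf : LCI.IsKoszulRegularSeq A (List.ofFn f)) :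
    ∀ k : ℕ, k ≤ c → LCI.IsKoszulRegularSeq (MvPolynomial (Fin c × Fin c) A) ((combList f).take k) := by
  let P := MvPolynomial (Fin c × Fin c) A
  suffices H : ∀ d k : ℕ, k + d = c → LCI.IsKoszulRegularSeq P ((combList f).take k) from
    fun k hk => H (c - k) k (by omega)
  intro d
  induction d with
  | zero =>
    intro k hk
    rw [List.take_of_length_le (by rw [length_combList]; omega)]
    refine Groth.Agent.CILib.isKoszulRegularSeq_of_ofList_eq
      (Groth.Agent.RelDivLib.isKoszulRegularSeq_flat (S := P) hf) (ofList_combList f) ?_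
    simp [combList]
  | succ d ih =>
    intro k hk
    have hkc : k < c := by omega
    let a : P := comb f ⟨k, hkc⟩
    have hperm : LCI.IsKoszulRegularSeq P (a :: (combList f).take k) := by
      refine Groth.Agent.CILib.isKoszulRegularSeq_perm ?_ (ih (k + 1) (by omega))
      rw [List.take_succ_eq_append_getElem (by rw [length_combList]; exact hkc), getElem_combList f k hkc]
      exact List.perm_append_singleton _ _
    let L := Localization.Away a
    refine Groth.Agent.RegBlowLib.isKoszulRegularSeq_of_cons a L _ hperm ?_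
    refine Groth.Agent.CILib.isKoszulRegularSeq_of_localization _ fun q _ => ?_
    haveI : Module.Flat P L := IsLocalization.flat _ (Submonoid.powers a)
    let Lq := Localization.AtPrime q
    haveI : Module.Flat L Lq := IsLocalization.flat _ q.primeCompl
    haveI : Module.Flat P Lq := Module.Flat.trans P L Lq
    obtain ⟨j, hkj, hj⟩ : ∃ j : Fin c, k ≤ j ∧ algebraMap P L (C (f j)) ∉ q := by
      by_contra hall
      push_neg at hall
      have ha : algebraMap P L a ∈ q := by
        simp only [a, comb, map_add, map_sum]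
        refine add_mem (hall ⟨k, hkc⟩ le_rfl) (Submodule.sum_mem _ fun j _ => ?_)
        split_ifs with h
        · rw [map_mul]
          exact Ideal.mul_mem_left _ _ (hall j (Fin.lt_def.1 h).le)
        · simp
      exact Ideal.IsPrime.ne_top ‹q.IsMaximal›.isPrime
        (Ideal.eq_top_of_isUnit_mem _ ha (IsLocalization.Away.algebraMap_isUnit a))
    have := isKoszulRegularSeq_take_of_isUnit f (S := Lq) k j hkj (by
      rw [IsScalarTower.algebraMap_apply P L Lq]
      exact IsLocalization.map_units Lq (⟨_, hj⟩ : q.primeCompl))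
    rw [List.map_map]
    exact (List.map_congr_left fun x _ => IsScalarTower.algebraMap_apply P L Lq x) ▸ this

/-- The generic combinations of a Koszul-regular sequence form a weakly regular sequence. -/
theorem isWeaklyRegular_combList (hf : LCI.IsKoszulRegularSeq A (List.ofFn f)) :
    RingTheory.Sequence.IsWeaklyRegular (MvPolynomial (Fin c × Fin c) A) (combList f) := by
  refine ⟨fun i hi => ?_⟩
  have hic : i < c := by rwa [length_combList] at hi
  have hperm : LCI.IsKoszulRegularSeq _ (comb f ⟨i, hic⟩ :: (combList f).take i) := by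
    refine Groth.Agent.CILib.isKoszulRegularSeq_perm ?_ (isKoszulRegularSeq_take f hf (i + 1) hic)
    rw [List.take_succ_eq_append_getElem hi, getElem_combList f i hic]
    exact List.perm_append_singleton _ _
  rw [isSMulRegular_iff_right_eq_zero_of_smul, getElem_combList f i hic]
  intro x hx
  obtain ⟨x, rfl⟩ := Submodule.Quotient.mk_surjective _ x
  rw [← Submodule.Quotient.mk_smul, Submodule.Quotient.mk_eq_zero, smul_eq_mul, smul_eq_mul, Ideal.mul_top] at hx
  rw [Submodule.Quotient.mk_eq_zero, smul_eq_mul, Ideal.mul_top]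
  exact Groth.Agent.RegBlowLib.mem_of_mul_mem _ _ hperm x hx

end Groth.Agent.GenSeqLib
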