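import Mathlib
import Groth.Agent.GenSeqLib.Ring
import Groth.Agent.RelDivLib.FlatBC
import Groth.Prelude.Def_RegImm

/-!
# A Koszul-regular closed immersion becomes regular after a smooth surjective base change
-/

set_option autoImplicit false
set_option linter.style.haveILetI false
set_option backward.isDefEq.respectTransparency false

universe u

open CategoryTheory CategoryTheory.Limits AlgebraicGeometry Groth.Agent

noncomputable section

namespace Groth.Agent.GenSeqLib

variable {X : Scheme.{u}}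

/-- The coordinate ring of a chart. -/
abbrev chartRing (A : CommRingCat.{u}) (c : ℕ) : CommRingCat.{u} :=
  CommRingCat.of (MvPolynomial (Fin c × Fin c) A)

/-- A chart over an affine open: affine space over it. -/
abbrev chartMap {U : X.Opens} (hU : IsAffineOpen U) (c : ℕ) : Spec (chartRing Γ(X, U) c) ⟶ X :=
  Spec.map (CommRingCat.ofHom (MvPolynomial.C : Γ(X, U) →+* _)) ≫ hU.fromSpec

theorem smooth_chartMap {U : X.Opens} (hU : IsAffineOpen U) (c : ℕ) : Smooth (chartMap hU c) := by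
  haveI : Smooth (Spec.map (CommRingCat.ofHom (MvPolynomial.C : Γ(X, U) →+* MvPolynomial (Fin c × Fin c) Γ(X, U)))) := by
    rw [HasRingHomProperty.Spec_iff (P := @Smooth), CommRingCat.hom_ofHom, ← MvPolynomial.algebraMap_eq]
    exact RingHom.smooth_algebraMap.2 ⟨inferInstance, inferInstance⟩
  exact inferInstanceAs (Smooth (_ ≫ hU.fromSpec))

theorem range_chartMap {U : X.Opens} (hU : IsAffineOpen U) (c : ℕ) : Set.range (chartMap hU c) = (U : Set X) := by
  refine Set.Subset.antisymm ?_ fun x hx => ?_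
  · rintro _ ⟨y, rfl⟩
    rw [Scheme.Hom.comp_apply, ← hU.range_fromSpec]
    exact ⟨_, rfl⟩
  · rw [← hU.range_fromSpec] at hx
    obtain ⟨p, rfl⟩ := hx
    let ev : chartRing Γ(X, U) c ⟶ Γ(X, U) :=
      CommRingCat.ofHom (MvPolynomial.eval (fun _ => (0 : Γ(X, U))))
    refine ⟨Spec.map ev p, ?_⟩
    rw [← Scheme.Hom.comp_apply, ← Category.assoc, ← Spec.map_comp]
    have : CommRingCat.ofHom (MvPolynomial.C : Γ(X, U) →+* _) ≫ ev = 𝟙 _ := by
      ext a
      simp [ev]
    rw [this]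
    simp
    rfl

/-- Regularity on a component isomorphic to a chart. -/
theorem isRegularImmersionAt_chart {Z Z' X' : Scheme.{u}} {i : Z ⟶ X} {i' : Z' ⟶ X'} {p : X' ⟶ X} {q : Z' ⟶ Z}
    (hc : IsPullback q i' i p) {U : X.Opens} (hU : IsAffineOpen U) (hcl : IsClosedImmersion (i ∣_ U))
    (rs : List Γ(X, U)) (hrs : LCI.IsKoszulRegularSeq Γ(X, U) rs)
    (hker : RingHom.ker (i.app U).hom = Ideal.ofList rs)
    (j : Spec (chartRing Γ(X, U) rs.length) ⟶ X') [IsOpenImmersion j] (hj : j ≫ p = chartMap hU rs.length)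
    (z' : Z') (hz : i' z' ∈ Set.range j) : RegImm.IsRegularImmersionAt RegImm.Kind.regular i' z' := by
  classical
  let V := j ''ᵁ ⊤
  have hV : IsAffineOpen V := (isAffineOpen_top _).image_of_isOpenImmersion j
  have hzV : i' z' ∈ V := by
    obtain ⟨y, hy⟩ := hz
    exact ⟨y, trivial, hy⟩
  have e : V ≤ p ⁻¹ᵁ U := by
    rintro _ ⟨y, -, rfl⟩
    show p (j y) ∈ U
    rw [← Scheme.Hom.comp_apply, hj, ← SetLike.mem_coe, ← range_chartMap hU rs.length]
    exact ⟨y, rfl⟩
  obtain ⟨hcV, hkV⟩ := RelDivLib.closed_and_ker_pullback hc hU hcl hV e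
  let Cm : Γ(X, U) ⟶ chartRing Γ(X, U) rs.length := CommRingCat.ofHom MvPolynomial.C
  let θ : Γ(X', V) ≅ chartRing Γ(X, U) rs.length := j.appIso ⊤ ≪≫ Scheme.ΓSpecIso _
  have hle : (⊤ : (Spec (chartRing Γ(X, U) rs.length)).Opens) ≤ chartMap hU rs.length ⁻¹ᵁ U := fun y _ => by
    show chartMap hU rs.length y ∈ U
    rw [← SetLike.mem_coe, ← range_chartMap hU rs.length]
    exact ⟨y, rfl⟩
  have hchart : (chartMap hU rs.length).appLE U ⊤ hle = Cm ≫ (Scheme.ΓSpecIso _).inv := by
    apply Spec.map_injective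
    rw [← cancel_mono hU.fromSpec, hU.SpecMap_appLE_fromSpec _ (isAffineOpen_top _) hle, IsAffineOpen.fromSpec_top,
      Scheme.isoSpec_Spec_inv, Spec.map_comp, Category.assoc]
  have hθ : p.appLE U V e ≫ θ.hom = Cm := by
    have h1 : p.appLE U V e ≫ j.appLE V ⊤ (Scheme.Hom.preimage_image_eq j ⊤).ge =
        Cm ≫ (Scheme.ΓSpecIso _).inv := by
      rw [Scheme.Hom.appLE_comp_appLE, ← hchart]
      congr 1
    rw [Iso.trans_hom, Scheme.Hom.appIso_hom', ← Category.assoc, h1, Category.assoc, Iso.inv_hom_id, Category.comp_id]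
  have hinv : Cm ≫ θ.inv = p.appLE U V e := by rw [← hθ, Category.assoc, Iso.hom_inv_id, Category.comp_id]
  have hflat : (θ.inv).hom.Flat := RingHom.Flat.of_bijective (ConcreteCategory.bijective_of_isIso θ.inv)
  refine ⟨⟨V, hV⟩, hzV, hcV, (combList rs.get).map θ.inv.hom, ?_, ?_⟩
  swap
  · rw [hkV, hker, ← hinv, ← Ideal.map_ofList θ.inv.hom (combList rs.get), ofList_combList, List.ofFn_get,
      ← Ideal.map_ofList, Ideal.map_map]
    rfl
  · letI := (θ.inv).hom.toAlgebra
    haveI : Module.Flat (chartRing Γ(X, U) rs.length) Γ(X', V) := hflat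
    refine ⟨RingTheory.Sequence.IsWeaklyRegular.of_flat
      (isWeaklyRegular_combList rs.get (by rw [List.ofFn_get]; exact hrs)), ?_⟩
    rw [smul_eq_mul, Ideal.mul_top]
    refine (?_ : Ideal.ofList _ ≠ ⊤).symm
    rw [← Ideal.map_ofList, ofList_combList, List.ofFn_get]
    have h1 := RelDivLib.ker_app_ne_top i' V z' hzV
    rw [hkV, hker, ← hinv, Ideal.map_ofList] at h1
    rw [Ideal.map_ofList]
    rw [List.map_map]
    exact h1

/-- The main theorem. -/
theorem exists_smooth_cover {Z : Scheme.{u}} (i : Z ⟶ X) [IsClosedImmersion i]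
    (hi : RegImm.IsRegularImmersion RegImm.Kind.koszul i) :
    ∃ (X' : Scheme.{u}) (g : X' ⟶ X), Smooth g ∧ Surjective g ∧
      RegImm.IsRegularImmersion RegImm.Kind.regular (pullback.snd i g) := by
  classical
  choose U hzU hcl rs hrs hker using hi.2
  let W : X.Opens := ⟨(Set.range i)ᶜ, i.isClosedEmbedding.isClosed_range.isOpen_compl⟩
  let Y : Z ⊕ PUnit.{u + 1} → Scheme.{u} :=
    Sum.elim (fun z => Spec (chartRing Γ(X, (U z).1) (rs z).length)) (fun _ => (W : Scheme.{u}))
  let π : ∀ a, Y a ⟶ X := fun a => match a with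
    | .inl z => chartMap (U z).2 (rs z).length
    | .inr _ => W.ι
  haveI : Smooth (Sigma.desc π) := IsZariskiLocalAtSource.sigmaDesc fun a => by
    rcases a with z | _
    · exact smooth_chartMap (U z).2 _
    · exact inferInstanceAs (Smooth W.ι)
  refine ⟨∐ Y, Sigma.desc π, inferInstance, ⟨fun x => ?_⟩, inferInstance, fun z' => ?_⟩
  · by_cases hx : x ∈ Set.range i
    · obtain ⟨z, rfl⟩ := hx
      obtain ⟨y, hy⟩ := (range_chartMap (U z).2 (rs z).length).ge (hzU z)
      refine ⟨Sigma.ι Y (.inl z) y, ?_⟩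
      rw [← Scheme.Hom.comp_apply, Sigma.ι_desc]
      exact hy
    · refine ⟨Sigma.ι Y (.inr PUnit.unit) ⟨x, hx⟩, ?_⟩
      rw [← Scheme.Hom.comp_apply, Sigma.ι_desc]
      rfl
  · obtain ⟨a, y, hy⟩ := (sigmaOpenCover Y).exists_eq (pullback.snd i (Sigma.desc π) z')
    rcases a with z | w
    · exact isRegularImmersionAt_chart (IsPullback.of_hasPullback i (Sigma.desc π)) (U z).2 (hcl z) (rs z) (hrs z)
        (hker z) (Sigma.ι Y (.inl z)) (Sigma.ι_desc _ _) z' ⟨y, hy⟩
    · exfalso
      have h1 : i (pullback.fst i (Sigma.desc π) z') = Sigma.desc π (Sigma.ι Y (.inr w) y) := by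
        rw [← Scheme.Hom.comp_apply, pullback.condition, Scheme.Hom.comp_apply, ← hy]
        rfl
      have h2 : Sigma.desc π (Sigma.ι Y (.inr w) y) = W.ι y := by
        rw [← Scheme.Hom.comp_apply]
        exact congrArg (fun φ => φ y) (Sigma.ι_desc π (.inr w))
      rw [h2] at h1
      exact (y : ↥W).2 ⟨_, h1⟩

end Groth.Agent.GenSeqLib
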